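import Groth.Agent.Lib.SBAut28.Glue
import Mathlib.CategoryTheory.Endomorphism

/-!
# Units of an algebra act on its Severi–Brauer scheme
-/

set_option autoImplicit false
set_option backward.isDefEq.respectTransparency false
universe u

open CategoryTheory Limits AlgebraicGeometry TensorProduct

namespace Groth.Agent.SBAut28

variable {k : Type u} [Field k] {A : Type u} [Ring A] [Algebra k A] {c : ℕ}

/-- Right multiplication by a unit. -/
noncomputable def rmul (u : Aˣ) : A ≃ₗ[k] A where
  toFun x := x * u
  map_add' x y := add_mul x y _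
  map_smul' r x := smul_mul_assoc r x _
  invFun x := x * (u⁻¹ : Aˣ)
  left_inv x := by simp [mul_assoc]
  right_inv x := by simp [mul_assoc]

variable (R : Type u) [CommRing R] [Algebra k R]

/-- Right multiplication by a unit after extension of scalars. -/
noncomputable def rho (u : Aˣ) : R ⊗[k] A ≃ₗ[R] R ⊗[k] A :=
  TensorProduct.AlgebraTensorModule.congr (LinearEquiv.refl R R) (rmul u)

theorem rho_apply (u : Aˣ) (x : R ⊗[k] A) : rho R u x = x * ((1 : R) ⊗ₜ[k] (u : A)) := by
  induction x using TensorProduct.induction_on with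
  | zero => rw [map_zero, zero_mul]
  | tmul r a => simp [rho, rmul, Algebra.TensorProduct.tmul_mul_tmul]
  | add x y hx hy => rw [map_add, hx, hy, add_mul]

theorem rho_tmul (u : Aˣ) (r : R) (a : A) : rho R u (r ⊗ₜ[k] a) = r ⊗ₜ[k] (a * (u : A)) := by
  simp [rho, rmul]

/-- Quotients by a transported submodule. -/
noncomputable def quotEquiv (u : Aˣ) (N : Submodule R (R ⊗[k] A)) :
    ((R ⊗[k] A) ⧸ N.comap (rho (k := k) R u).toLinearMap) ≃ₗ[R] (R ⊗[k] A) ⧸ N :=
  Submodule.Quotient.equiv _ _ (rho R u)
    (Submodule.map_comap_eq_of_surjective (rho R u).surjective _)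

theorem quotEquiv_mk (u : Aˣ) (N : Submodule R (R ⊗[k] A)) (x : R ⊗[k] A) :
    quotEquiv R u N (Submodule.Quotient.mk x) = Submodule.Quotient.mk (rho R u x) :=
  rfl

/-- The action of a unit, on the Grassmannian. -/
noncomputable def actGr (u : Aˣ) (N : Module.Grassmannian R (R ⊗[k] A) c) :
    Module.Grassmannian R (R ⊗[k] A) c where
  toSubmodule := N.toSubmodule.comap (rho (k := k) R u).toLinearMap
  finite_quotient := Module.Finite.equiv (quotEquiv R u N.toSubmodule).symm
  projective_quotient := Module.Projective.of_equiv (quotEquiv R u N.toSubmodule).symm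
  rankAtStalk_eq p := by
    rw [Module.rankAtStalk_eq_of_equiv (quotEquiv R u N.toSubmodule)]
    exact N.rankAtStalk_eq p

/-- The action of a unit on left ideals. -/
noncomputable def act (u : Aˣ) (N : BrSev.SBSet k A c R) : BrSev.SBSet k A c R :=
  ⟨actGr R u N.1,
    fun a x hx => by
      show rho R u (a * x) ∈ N.1.toSubmodule
      rw [rho_apply, mul_assoc]
      exact N.2 a _ (by rw [← rho_apply]; exact hx)⟩

theorem mem_act (u : Aˣ) (N : BrSev.SBSet k A c R) (x : R ⊗[k] A) :
    x ∈ (act R u N).1.toSubmodule ↔ x * ((1 : R) ⊗ₜ[k] (u : A)) ∈ N.1.toSubmodule := by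
  rw [← rho_apply]; rfl

theorem act_one (N : BrSev.SBSet k A c R) : act R (1 : Aˣ) N = N :=
  Subtype.ext (Module.Grassmannian.ext (Submodule.ext fun x => by
    rw [mem_act, Units.val_one, ← Algebra.TensorProduct.one_def, mul_one]))

theorem act_mul (u v : Aˣ) (N : BrSev.SBSet k A c R) : act R (u * v) N = act R u (act R v N) :=
  Subtype.ext (Module.Grassmannian.ext (Submodule.ext fun x => by
    rw [mem_act, mem_act, mem_act, mul_assoc, Algebra.TensorProduct.tmul_mul_tmul, one_mul,
      Units.val_mul]))

variable {R} in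
theorem map_act {S : Type u} [CommRing S] [Algebra k S] (φ : R →ₐ[k] S) (u : Aˣ)
    (N : BrSev.SBSet k A c R) :
    (Module.Grassmannian.map φ (act R u N).1).toSubmodule =
      (Module.Grassmannian.map φ N.1).toSubmodule.comap (rho (k := k) S u).toLinearMap := by
  letI : Algebra R S := φ.toAlgebra
  haveI : IsScalarTower k R S :=
    IsScalarTower.of_algebraMap_eq' <| IsScalarTower.algebraMap_eq k R S
  rw [Module.Grassmannian.map_toSubmodule, Module.Grassmannian.map_toSubmodule]
  let q : ((R ⊗[k] A) ⧸ (act R u N).1.toSubmodule) ≃ₗ[R] (R ⊗[k] A) ⧸ N.1.toSubmodule :=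
    quotEquiv R u N.1.toSubmodule
  have key : ∀ x, (q.baseChange R S) (Module.Grassmannian.baseChangeMkQ S (act R u N).1.toSubmodule x) =
      Module.Grassmannian.baseChangeMkQ S N.1.toSubmodule (rho S u x) := by
    intro x
    induction x using TensorProduct.induction_on with
    | zero => simp
    | tmul s a =>
      simp [rho_tmul, Module.Grassmannian.baseChangeMkQ, q]
      exact congrArg (fun z => s ⊗ₜ[R] z) ((quotEquiv_mk R u _ _).trans (by rw [rho_tmul]))
    | add x y hx hy => rw [map_add, map_add, map_add, map_add, hx, hy]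
  ext x
  rw [Submodule.mem_comap, LinearMap.mem_ker, LinearMap.mem_ker]
  erw [← key]
  exact ((q.baseChange R S).map_eq_zero_iff).symm

variable {X : Scheme.{u}} {f : X ⟶ Spec (CommRingCat.of k)}

/-- The natural operation on points given by a unit. -/
noncomputable def ptsEnd (s : BrSev.SBStr k A c f) (u : Aˣ) : PtsEnd f where
  app R _ _ g := (s.bij R).symm (act R u (s.bij R g))
  natural R S _ _ _ _ φ g := by
    apply (s.bij S).injective
    rw [Equiv.apply_symm_apply]
    refine Subtype.ext (Module.Grassmannian.ext ?_)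
    rw [s.natural R S φ, Equiv.apply_symm_apply, map_act]
    show (s.bij S (BrSev.Pts.map f φ g)).1.toSubmodule.comap _ = _
    rw [s.natural R S φ]

variable (s : BrSev.SBStr k A c f)

theorem mor_one : (ptsEnd s (1 : Aˣ)).mor = 𝟙 X :=
  hom_ext_pts (f := f) fun R _ _ p => by
    rw [PtsEnd.comp_mor', Category.comp_id]
    show ((s.bij R).symm (act R 1 (s.bij R p))).1 = p.1
    rw [act_one, Equiv.symm_apply_apply]

theorem mor_mul (u v : Aˣ) : (ptsEnd s (u * v)).mor = (ptsEnd s v).mor ≫ (ptsEnd s u).mor :=
  hom_ext_pts (f := f) fun R _ _ p => by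
    rw [← Category.assoc, PtsEnd.comp_mor', PtsEnd.comp_mor', PtsEnd.comp_mor']
    show ((s.bij R).symm (act R (u * v) (s.bij R p))).1 =
      ((s.bij R).symm (act R u (s.bij R ((s.bij R).symm (act R v (s.bij R p)))))).1
    rw [Equiv.apply_symm_apply, act_mul]

/-- The automorphism given by a unit. -/
noncomputable def autUnit (u : Aˣ) : Aut (Over.mk f) :=
  Over.isoMk
    { hom := (ptsEnd s u).mor
      inv := (ptsEnd s u⁻¹).mor
      hom_inv_id := by rw [← mor_mul, inv_mul_cancel, mor_one]
      inv_hom_id := by rw [← mor_mul, mul_inv_cancel, mor_one] }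
    (ptsEnd s u).mor_over

theorem autUnit_hom (u : Aˣ) : (autUnit s u).hom.left = (ptsEnd s u).mor := rfl

/-- The homomorphism from units to automorphisms. -/
noncomputable def autHom : Aˣ →* Aut (Over.mk f) where
  toFun := autUnit s
  map_one' := Aut.ext (Over.OverMorphism.ext (mor_one s))
  map_mul' u v := Aut.ext (Over.OverMorphism.ext (mor_mul s u v))

theorem autHom_apply (u : Aˣ) (R : Type u) [CommRing R] [Algebra k R] (p : BrSev.Pts f R) :
    p.1 ≫ (autHom s u).hom.left = ((s.bij R).symm (act R u (s.bij R p))).1 :=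
  (ptsEnd s u).comp_mor' R p

theorem act_eq_of_autHom_eq_one {u : Aˣ} (h : autHom s u = 1) (R : Type u) [CommRing R]
    [Algebra k R] (N : BrSev.SBSet k A c R) : act R u N = N := by
  have h1 := autHom_apply s u R ((s.bij R).symm N)
  rw [h, Equiv.apply_symm_apply] at h1
  refine (s.bij R).symm.injective (Subtype.ext (h1.symm.trans ?_))
  exact Category.comp_id _

theorem autHom_algebraMap (r : kˣ) : autHom s (Units.map (algebraMap k A : k →* A) r) = 1 := by
  refine Aut.ext (Over.OverMorphism.ext (hom_ext_pts (f := f) fun R _ _ p => ?_))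
  rw [autHom_apply]
  refine Eq.trans ?_ (Category.comp_id _).symm
  refine congrArg Subtype.val ?_
  refine (s.bij R).symm_apply_eq.2 ?_
  refine Subtype.ext (Module.Grassmannian.ext (Submodule.ext fun x => ?_))
  rw [mem_act]
  have e : x * ((1 : R) ⊗ₜ[k] ((Units.map (algebraMap k A : k →* A) r : Aˣ) : A)) =
      (algebraMap k R (r : k)) • x := by
    rw [show ((Units.map (algebraMap k A : k →* A) r : Aˣ) : A) = algebraMap k A (r : k) from rfl,
      Algebra.algebraMap_eq_smul_one, TensorProduct.tmul_smul, ← Algebra.TensorProduct.one_def,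
      mul_smul_comm, mul_one, algebra_compatible_smul R]
  rw [e]
  exact Submodule.smul_mem_iff_of_isUnit _ ((algebraMap k R).isUnit_map r.isUnit)

end Groth.Agent.SBAut28
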