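import Groth.Prelude.Def_BrSev2
import Mathlib.AlgebraicGeometry.Cover.Open
import Mathlib.AlgebraicGeometry.Gluing

/-!
# Endomorphisms of a scheme from natural operations on its affine points
-/

set_option autoImplicit false
set_option backward.isDefEq.respectTransparency false
universe u

open CategoryTheory Limits AlgebraicGeometry

namespace Groth.Agent.SBAut28

variable {k : Type u} [Field k] {X : Scheme.{u}} (f : X ⟶ Spec (CommRingCat.of k))

/-- A natural operation on the affine points of `X` over `k`. -/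
structure PtsEnd where
  /-- the operation -/
  app : ∀ (R : Type u) [CommRing R] [Algebra k R], BrSev.Pts f R → BrSev.Pts f R
  natural : ∀ (R S : Type u) [CommRing R] [Algebra k R] [CommRing S] [Algebra k S]
    (φ : R →ₐ[k] S) (g : BrSev.Pts f R), app S (BrSev.Pts.map f φ g) = BrSev.Pts.map f φ (app R g)

variable {f} (τ : PtsEnd f)

/-- The operation on all morphisms from affine schemes. -/
noncomputable def PtsEnd.appHom {C : CommRingCat.{u}} (g : Spec C ⟶ X) : Spec C ⟶ X :=
  letI : Algebra k C := (Spec.preimage (g ≫ f)).hom.toAlgebra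
  (τ.app C ⟨g, (Spec.map_preimage (g ≫ f)).symm⟩).1

theorem PtsEnd.appHom_eq (R : Type u) [CommRing R] [i : Algebra k R]
    (g : Spec (CommRingCat.of R) ⟶ X)
    (hg : g ≫ f = Spec.map (CommRingCat.ofHom (algebraMap k R))) :
    τ.appHom g = (@PtsEnd.app _ _ _ _ τ R _ i (@Subtype.mk _ _ g hg)).1 := by
  have h : (Spec.preimage (g ≫ f)).hom.toAlgebra = i := by
    apply Algebra.algebra_ext
    intro r
    have : Spec.preimage (g ≫ f) = CommRingCat.ofHom (algebraMap k R) :=
      Spec.map_injective (by rw [Spec.map_preimage, hg])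
    rw [RingHom.algebraMap_toAlgebra, this]
    rfl
  have key : ∀ (i' : Algebra k R), i' = i →
      ∀ hg' : g ≫ f = Spec.map (CommRingCat.ofHom (@algebraMap k R _ _ i')),
        (@PtsEnd.app _ _ _ _ τ R _ i' (@Subtype.mk _ _ g hg')).1 = (@PtsEnd.app _ _ _ _ τ R _ i (@Subtype.mk _ _ g hg)).1 := by
    intro i' hi hg'
    subst hi
    rfl
  exact key _ h _

theorem PtsEnd.appHom_over {C : CommRingCat.{u}} (g : Spec C ⟶ X) : τ.appHom g ≫ f = g ≫ f := by
  letI : Algebra k C := (Spec.preimage (g ≫ f)).hom.toAlgebra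
  exact ((τ.app C ⟨g, (Spec.map_preimage (g ≫ f)).symm⟩).2).trans (Spec.map_preimage (g ≫ f))

theorem PtsEnd.appHom_comp {C D : CommRingCat.{u}} (g : Spec C ⟶ X) (h : Spec D ⟶ Spec C) :
    τ.appHom (h ≫ g) = h ≫ τ.appHom g := by
  obtain ⟨φ, rfl⟩ := Spec.map_surjective h
  letI : Algebra k C := (Spec.preimage (g ≫ f)).hom.toAlgebra
  letI : Algebra k D := (φ.hom.comp (algebraMap k C)).toAlgebra
  let φ' : C →ₐ[k] D := { φ.hom with commutes' := fun _ => rfl }
  have hg : g ≫ f = Spec.map (CommRingCat.ofHom (algebraMap k C)) :=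
    (Spec.map_preimage (g ≫ f)).symm
  have hn := τ.natural C D φ' ⟨g, hg⟩
  have h1 := τ.appHom_eq C g hg
  have h2 := τ.appHom_eq D (BrSev.Pts.map f φ' ⟨g, hg⟩).1 (BrSev.Pts.map f φ' ⟨g, hg⟩).2
  refine h2.trans ((congrArg Subtype.val hn).trans ?_)
  exact congrArg (Spec.map φ ≫ ·) h1.symm

/-- The endomorphism of `X`. -/
noncomputable def PtsEnd.mor : X ⟶ X :=
  X.affineCover.glueMorphisms (fun i => τ.appHom (X.affineCover.f i)) (by
    intro i j
    refine (pullback (X.affineCover.f i) (X.affineCover.f j)).affineCover.hom_ext _ _ fun m => ?_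
    rw [← Category.assoc, ← Category.assoc, ← τ.appHom_comp, ← τ.appHom_comp]
    simp only [Category.assoc, pullback.condition])

theorem PtsEnd.ι_mor (i : X.affineCover.I₀) :
    X.affineCover.f i ≫ τ.mor = τ.appHom (X.affineCover.f i) :=
  Scheme.Cover.ι_glueMorphisms _ _ _ i

theorem PtsEnd.comp_mor {C : CommRingCat.{u}} (g : Spec C ⟶ X) : g ≫ τ.mor = τ.appHom g := by
  refine Scheme.Cover.hom_ext (X.affineCover.pullback₁ g) _ _ fun i => ?_
  refine (pullback g (X.affineCover.f i)).affineCover.hom_ext _ _ fun m => ?_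
  change _ ≫ pullback.fst g (X.affineCover.f i) ≫ g ≫ τ.mor =
    _ ≫ pullback.fst g (X.affineCover.f i) ≫ τ.appHom g
  rw [pullback.condition_assoc, τ.ι_mor]
  rw [← Category.assoc, ← Category.assoc, ← τ.appHom_comp, ← τ.appHom_comp]
  simp only [Category.assoc, pullback.condition]

theorem PtsEnd.comp_mor' (R : Type u) [CommRing R] [Algebra k R] (g : BrSev.Pts f R) :
    g.1 ≫ τ.mor = (τ.app R g).1 := by
  exact (τ.comp_mor g.1).trans (τ.appHom_eq R g.1 g.2)

theorem PtsEnd.mor_over : τ.mor ≫ f = f :=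
  X.affineCover.hom_ext _ _ fun i => by rw [← Category.assoc, τ.ι_mor]; exact τ.appHom_over _

/-- Endomorphisms of `X` over `k` agreeing on all affine points are equal. -/
theorem hom_ext_pts {g g' : X ⟶ X}
    (h : ∀ (R : Type u) [CommRing R] [Algebra k R] (p : BrSev.Pts f R), p.1 ≫ g = p.1 ≫ g') :
    g = g' := by
  refine X.affineCover.hom_ext _ _ fun i => ?_
  letI : Algebra k (X.affineOpenCover.X i) :=
    (Spec.preimage (X.affineCover.f i ≫ f)).hom.toAlgebra
  exact h (X.affineOpenCover.X i) ⟨X.affineCover.f i, (Spec.map_preimage _).symm⟩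

end Groth.Agent.SBAut28
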