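import Groth.Agent.Lib.SBAut28.Action
import Groth.Agent.Lib.SBSplit25.Morita
import Groth.Agent.S0201

/-!
# Only scalars act trivially on the Severi–Brauer scheme
-/

set_option autoImplicit false
set_option backward.isDefEq.respectTransparency false
universe u

open TensorProduct Module Matrix

namespace Groth.Agent.SBAut28

open Groth.Agent.SBSplit25

variable {k : Type u} [Field k] {A : Type u} [Ring A] [Algebra k A]

/-- A matrix for which every vector is an eigenvector is scalar. -/
theorem scalar_of_forall_vecMul {K : Type*} [Field K] {n : ℕ} (hn : 0 < n)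
    (U : Matrix (Fin n) (Fin n) K) (h : ∀ v : Fin n → K, ∃ l : K, v ᵥ* U = l • v) :
    ∃ l : K, U = l • (1 : Matrix (Fin n) (Fin n) K) := by
  classical
  choose l hl using h
  let e : Fin n → (Fin n → K) := fun i => Pi.single i 1
  let i₀ : Fin n := ⟨0, hn⟩
  have hrow : ∀ i j, U i j = l (e i) * e i j := by
    intro i j
    have h1 := congrFun (hl (e i)) j
    simpa [e, Pi.smul_apply] using h1
  have hconst : ∀ i, l (e i) = l (e i₀) := by
    intro i
    by_cases hi : i = i₀
    · rw [hi]
    have h1 : (e i + e i₀) ᵥ* U = l (e i) • e i + l (e i₀) • e i₀ := by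
      rw [Matrix.add_vecMul, hl, hl]
    rw [hl] at h1
    have h2 := congrFun h1 i
    have h3 := congrFun h1 i₀
    simp [e, hi, Ne.symm hi] at h2 h3
    rw [← h2, ← h3]
  refine ⟨l (e i₀), ?_⟩
  ext i j
  rw [hrow, hconst, Matrix.smul_apply, Matrix.one_apply]
  simp [e, Pi.single_apply, eq_comm]

theorem rankAtStalk_quot_span {K : Type u} [Field K] {V : Type u} [AddCommGroup V] [Module K V]
    [FiniteDimensional K V] {n : ℕ} (hV : Module.finrank K V = n) {v : V} (hv : v ≠ 0)
    (p : PrimeSpectrum K) : Module.rankAtStalk (V ⧸ Submodule.span K {v}) p = n - 1 := by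
  rw [Module.rankAtStalk_eq_finrank_of_free]
  show Module.finrank K (V ⧸ Submodule.span K {v}) = n - 1
  have := Submodule.finrank_quotient_add_finrank (Submodule.span K {v})
  rw [finrank_span_singleton hv, hV] at this
  omega

/-- Only scalars act trivially on all left ideals. -/
theorem mem_range_of_act_eq [FiniteDimensional k A] [Algebra.IsCentral k A] [IsSimpleRing A]
    {n : ℕ} (hn : 0 < n) (hA : Module.finrank k A = n * n) (u : Aˣ)
    (h : ∀ (R : Type u) [CommRing R] [Algebra k R] (N : BrSev.SBSet k A (n * n - n) R),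
      act R u N = N) : (u : A) ∈ (algebraMap k A).range := by
  classical
  obtain ⟨K, _, _, _, -, m, hm, ⟨ψ⟩⟩ := Groth.Agent.S0201.result k A
  have hmn : m = n := by
    have h := LinearEquiv.finrank_eq ψ.toLinearEquiv
    rw [Module.finrank_baseChange, hA, Module.finrank_matrix, Module.finrank_self,
      Fintype.card_fin, mul_one] at h
    exact (Nat.mul_self_inj.1 h).symm
  subst hmn
  have heig : ∀ v : Fin m → K, ∃ l : K,
      v ᵥ* eMat k K A ψ K ((1 : K) ⊗ₜ[k] (u : A)) = l • v := by
    intro v
    by_cases hv : v = 0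
    · exact ⟨0, by simp [hv]⟩
    let w := (coord K K).symm v
    have hw : w ≠ 0 := (coord K K).symm.map_ne_zero_iff.2 hv
    let L : GrassLib.Pt K (Fin m → K) (m - 1) K :=
      { toSubmodule := Submodule.span K {w}
        finite_quotient := inferInstance
        projective_quotient := inferInstance
        rankAtStalk_eq := fun p => rankAtStalk_quot_span
          (by rw [LinearEquiv.finrank_eq (coord K K)]; simp) hw p }
    let x := ofRows k K A ψ K (Pi.single ⟨0, hn⟩ w)
    have hx : x ∈ (idealOfLine k K A ψ L).1.toSubmodule :=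
      (ofRows_single_mem_iff k K A ψ hn L w).2 (Submodule.mem_span_singleton_self w)
    rw [← h K (idealOfLine k K A ψ L), mem_act] at hx
    have h0 := (mem_idealOfLine k K A ψ L _).1 hx ⟨0, hn⟩
    obtain ⟨l, hl⟩ := Submodule.mem_span_singleton.1 h0
    refine ⟨l, ?_⟩
    have h1 := congrArg (coord K K) hl
    rw [map_smul, coord_rowMap, map_mul, LinearEquiv.apply_symm_apply] at h1
    rw [h1]
    have h2 : eMat k K A ψ K x ⟨0, hn⟩ = v := by
      rw [← coord_rowMap, rowMap_ofRows, Pi.single_eq_same, LinearEquiv.apply_symm_apply]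
    conv_lhs => rw [← h2]
    rfl
  obtain ⟨l, hl⟩ := scalar_of_forall_vecMul hn _ heig
  by_contra hu
  have hu1 : (1 : K) ⊗ₜ[k] (u : A) = l ⊗ₜ[k] (1 : A) := by
    apply (eMat k K A ψ K).injective
    rw [hl, show l ⊗ₜ[k] (1 : A) = algebraMap K (K ⊗[k] A) l from rfl, AlgEquiv.commutes,
      Algebra.algebraMap_eq_smul_one]
  haveI : Nontrivial A := inferInstance
  have hind : LinearIndependent k ![(1 : A), (u : A)] := by
    rw [LinearIndependent.pair_iff' one_ne_zero]
    intro a ha
    exact hu ⟨a, by rw [← ha, Algebra.algebraMap_eq_smul_one]⟩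
  obtain ⟨φ, hφ⟩ := LinearMap.exists_extend
    ((Finsupp.linearCombination k ![(0 : k), 1]).comp hind.repr)
  have e1 : φ 1 = 0 := by
    have := LinearMap.congr_fun hφ ⟨1, Submodule.subset_span ⟨0, rfl⟩⟩
    simpa [hind.repr_eq_single 0 ⟨1, Submodule.subset_span ⟨0, rfl⟩⟩ rfl] using this
  have e2 : φ (u : A) = 1 := by
    have := LinearMap.congr_fun hφ ⟨(u : A), Submodule.subset_span ⟨1, rfl⟩⟩
    simpa [hind.repr_eq_single 1 ⟨(u : A), Submodule.subset_span ⟨1, rfl⟩⟩ rfl] using this
  have := congrArg (TensorProduct.rid k K) (congrArg (φ.baseChange K) hu1)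
  simp [e1, e2] at this

end Groth.Agent.SBAut28
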