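import Groth.Agent.Lib.SBAut28.LmapPts
import Groth.Agent.Lib.SBSplit25.Main

/-!
# Plücker coordinates of lines
-/

set_option autoImplicit false
set_option backward.isDefEq.respectTransparency false
universe u

open TensorProduct Module CategoryTheory Limits AlgebraicGeometry

namespace Groth.Agent.SBAut28

open Groth.Agent.GrassLib Groth.Agent.SBSplit25

variable (K : Type u) [Field K] (m : ℕ)

/-- The element `1 ⊗ v`. -/
noncomputable abbrev vec (v : Fin (m + 1) → K) : K ⊗[K] (Fin (m + 1) → K) := (1 : K) ⊗ₜ[K] v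

theorem coord_vec (v : Fin (m + 1) → K) : coord K K (vec K m v) = v := by
  ext i; simp [vec, coord]

/-- The line through a non-zero vector. -/
noncomputable def line (v : Fin (m + 1) → K) (hv : v ≠ 0) :
    GrassLib.Pt K (Fin (m + 1) → K) m K where
  toSubmodule := Submodule.span K {vec K m v}
  finite_quotient := inferInstance
  projective_quotient := inferInstance
  rankAtStalk_eq p := by
    rw [Module.rankAtStalk_eq_finrank_of_free]
    show Module.finrank K ((K ⊗[K] (Fin (m + 1) → K)) ⧸ Submodule.span K {vec K m v}) = m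
    have h := Submodule.finrank_quotient_add_finrank (Submodule.span K {vec K m v})
    have hne : vec K m v ≠ 0 := fun h0 => hv (by rw [← coord_vec K m v, h0, map_zero])
    rw [finrank_span_singleton hne, LinearEquiv.finrank_eq (coord K K),
      Module.finrank_fin_fun] at h
    omega

theorem mem_line (v : Fin (m + 1) → K) (hv : v ≠ 0) (x : K ⊗[K] (Fin (m + 1) → K)) :
    x ∈ (line K m v hv).toSubmodule ↔ ∃ l : K, l • v = coord K K x := by
  show x ∈ Submodule.span K {vec K m v} ↔ _
  rw [Submodule.mem_span_singleton]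
  refine exists_congr fun l => ?_
  rw [← (coord K K).injective.eq_iff, map_smul, coord_vec]

theorem exists_line (L : GrassLib.Pt K (Fin (m + 1) → K) m K) :
    ∃ (v : Fin (m + 1) → K) (hv : v ≠ 0), L = line K m v hv := by
  have hq := L.rankAtStalk_eq (Classical.arbitrary (PrimeSpectrum K))
  rw [Module.rankAtStalk_eq_finrank_of_free] at hq
  have h := Submodule.finrank_quotient_add_finrank L.toSubmodule
  have hq' : Module.finrank K ((K ⊗[K] (Fin (m + 1) → K)) ⧸ L.toSubmodule) = m := hq
  rw [hq', LinearEquiv.finrank_eq (coord K K), Module.finrank_fin_fun] at h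
  obtain ⟨x, hx, hx0⟩ := Submodule.exists_mem_ne_zero_of_ne_bot (p := L.toSubmodule) (fun hbot => by
    rw [hbot, finrank_bot] at h
    omega)
  have hv : coord K K x ≠ 0 := fun h0 => hx0 ((coord K K).map_eq_zero_iff.1 h0)
  refine ⟨coord K K x, hv, (SBSplit25.grassmannian_eq_of_le ?_).symm⟩
  intro y hy
  obtain ⟨l, hl⟩ := (mem_line K m _ hv y).1 hy
  rw [show y = l • x from (coord K K).injective (by rw [← hl, map_smul])]
  exact Submodule.smul_mem _ l hx

theorem line_eq_iff {v v' : Fin (m + 1) → K} {hv : v ≠ 0} {hv' : v' ≠ 0}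
    (h : line K m v hv = line K m v' hv') : ∃ c : K, c • v' = v := by
  have h1 : vec K m v ∈ (line K m v' hv').toSubmodule := h ▸ Submodule.mem_span_singleton_self _
  obtain ⟨l, hl⟩ := (mem_line K m v' hv' _).1 h1
  exact ⟨l, by rwa [coord_vec] at hl⟩

/-- The determinant of a vector and `m` further vectors. -/
noncomputable def bigDet (v : Fin (m + 1) → K) (z : Fin m → Fin (m + 1) → K) : K :=
  Matrix.det (Matrix.of (Fin.cons v z))

theorem inChart_of_bigDet {v : Fin (m + 1) → K} {hv : v ≠ 0} {x : Fin m → Fin (m + 1) → K}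
    (h : bigDet K m v x ≠ 0) : InChart x (line K m v hv) := by
  rw [GrassLib.inChart_iff]
  intro y
  obtain ⟨a, ha⟩ := (Matrix.vecMul_surjective_iff_isUnit.2
    ((Matrix.isUnit_iff_isUnit_det _).2 (isUnit_iff_ne_zero.2 h))) (coord K K y)
  refine ⟨fun i => a i.succ, (mem_line K m v hv _).2 ⟨a 0, ?_⟩⟩
  rw [map_sub, ← ha]
  ext j
  simp [Matrix.vecMul, dotProduct, Fin.sum_univ_succ, GrassLib.lc_apply, map_sum, Finset.sum_apply,
    coord, mul_comm]

theorem bigDet_eq {v : Fin (m + 1) → K} {hv : v ≠ 0} {x : Fin m → Fin (m + 1) → K}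
    (h : InChart x (line K m v hv)) (z : Fin m → Fin (m + 1) → K) :
    bigDet K m v z = h.det z * bigDet K m v x := by
  have hc : ∀ j, ∃ c : K, z j = c • v + ∑ i, h.ell (z j) i • x i := by
    intro j
    obtain ⟨l, hl⟩ := (mem_line K m v hv _).1 (h.sub_mem (z j))
    refine ⟨l, ?_⟩
    rw [hl, map_sub]
    ext t
    simp [GrassLib.lc_apply, map_sum, Finset.sum_apply, coord, mul_comm]
  choose c hc using hc
  let T : Matrix (Fin (m + 1)) (Fin (m + 1)) K :=
    Matrix.of (Fin.cons (Pi.single 0 1) (fun j => Fin.cons (c j) (h.ell (z j))))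
  have hmul : Matrix.of (Fin.cons v z) = T * Matrix.of (Fin.cons v x) := by
    ext i t
    refine Fin.cases ?_ (fun j => ?_) i
    · simp [T, Matrix.mul_apply, Fin.sum_univ_succ]
    · rw [Matrix.mul_apply, Fin.sum_univ_succ]
      simp only [T, Matrix.of_apply, Fin.cons_succ, Fin.cons_zero]
      conv_lhs => rw [hc j]
      simp [Finset.sum_apply]
  rw [bigDet, bigDet, hmul, Matrix.det_mul]
  congr 1
  rw [Matrix.det_succ_row_zero, Fin.sum_univ_succ]
  simp only [T, Matrix.of_apply, Fin.cons_zero, Pi.single_eq_same, Fin.val_zero, pow_zero, one_mul]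
  rw [Finset.sum_eq_zero (fun i _ => by simp [Fin.succ_ne_zero]), add_zero, GrassLib.InChart.det,
    ← Matrix.det_transpose]
  congr 1

theorem updateRow_cons (v u : Fin (m + 1) → K) (z : Fin m → Fin (m + 1) → K) :
    (Matrix.of (Fin.cons v z)).updateRow 0 u = Matrix.of (Fin.cons u z) := by
  ext i j
  refine Fin.cases ?_ (fun l => ?_) i
  · simp
  · simp [Fin.succ_ne_zero]

variable (idx : Fin (m + 1) ≃ {S : Finset (Fin (m + 1)) // S.card = m})

/-- The Plücker coordinates of a line, as a linear map. -/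
noncomputable def wmap : (Fin (m + 1) → K) →ₗ[K] (Fin (m + 1) → K) :=
  LinearMap.pi fun r =>
    { toFun := fun v => bigDet K m v (pc (Pi.basisFun K (Fin (m + 1))) idx r)
      map_add' := fun v w => by
        simp only [bigDet]
        have := Matrix.det_updateRow_add
          (Matrix.of (Fin.cons v (pc (Pi.basisFun K (Fin (m + 1))) idx r))) 0 v w
        simpa [updateRow_cons] using this
      map_smul' := fun a v => by
        simp only [bigDet, RingHom.id_apply, smul_eq_mul]
        have := Matrix.det_updateRow_smul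
          (Matrix.of (Fin.cons v (pc (Pi.basisFun K (Fin (m + 1))) idx r))) 0 a v
        simpa [updateRow_cons] using this }

theorem wmap_apply (v : Fin (m + 1) → K) (r : Fin (m + 1)) :
    wmap K m idx v r = bigDet K m v (pc (Pi.basisFun K (Fin (m + 1))) idx r) := rfl

theorem wmap_injective : Function.Injective (wmap K m idx) := by
  classical
  rw [injective_iff_map_eq_zero]
  intro v hv
  by_contra hv0
  obtain ⟨i, hi⟩ := Function.ne_iff.1 hv0
  let S : {S : Finset (Fin (m + 1)) // S.card = m} :=
    ⟨Finset.univ.erase i, by simp⟩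
  have h := congrFun hv (idx.symm S)
  rw [wmap_apply, bigDet] at h
  obtain ⟨a, ha0, ha⟩ := Matrix.exists_vecMul_eq_zero_iff.2 h
  have hmem : ∀ j, sel idx (idx.symm S) j ≠ i := by
    intro j hj
    have h1 : sel idx (idx.symm S) j ∈ (idx (idx.symm S)).1 :=
      Finset.orderEmbOfFin_mem _ _ j
    rw [Equiv.apply_symm_apply, hj] at h1
    simp [S] at h1
  have hinj : Function.Injective (sel idx (idx.symm S)) :=
    ((idx (idx.symm S)).1.orderEmbOfFin (idx (idx.symm S)).2).injective
  have h0 : a 0 = 0 := by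
    have h1 := congrFun ha i
    simp [Matrix.vecMul, dotProduct, Fin.sum_univ_succ, Pi.single_apply, fun j => (hmem j).symm] at h1
    exact h1.resolve_right hi
  refine ha0 (funext fun t => Fin.cases h0 (fun j => ?_) t)
  have h1 := congrFun ha (sel idx (idx.symm S) j)
  simpa [Matrix.vecMul, dotProduct, Fin.sum_univ_succ, Pi.single_apply, h0, hinj.eq_iff] using h1

/-- The Plücker coordinates of a line, as a linear equivalence. -/
noncomputable def wEquiv : (Fin (m + 1) → K) ≃ₗ[K] (Fin (m + 1) → K) :=
  LinearEquiv.ofInjectiveEndo (wmap K m idx) (wmap_injective K m idx)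

theorem wEquiv_apply (v : Fin (m + 1) → K) : wEquiv K m idx v = wmap K m idx v := rfl

variable {K m} {X : Over (Spec (CommRingCat.of K))}

/-- Plücker image of the point of a line. -/
theorem mor_line_plucker (hX : Rep K (Fin (m + 1) → K) m X) (v : Fin (m + 1) → K) (hv : v ≠ 0)
    (s : Fin (m + 1)) (hs : wEquiv K m idx v s ≠ 0) :
    hX.mor (line K m v hv) ≫ hX.plucker (Pi.basisFun K (Fin (m + 1))) idx =
      vecMor s ((wEquiv K m idx v s)⁻¹ • wEquiv K m idx v) := by
  have hs' : bigDet K m v (pc (Pi.basisFun K (Fin (m + 1))) idx s) ≠ 0 := hs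
  have h := inChart_of_bigDet K m (hv := hv) hs'
  let φ := ChartSet.desc (single_inChart h)
  have hφ : GrassLib.gmap φ (upt (pc (Pi.basisFun K (Fin (m + 1))) idx s)) = line K m v hv :=
    ChartSet.gmap_desc _
  rw [← hφ, ← hX.sp_chartInc, Category.assoc, hX.chartInc_plucker, sp_pluckerChart]
  have hrw : ∀ (N N' : GrassLib.Pt K (Fin (m + 1) → K) m K) (e : N = N')
      (h1 : InChart (pc (Pi.basisFun K (Fin (m + 1))) idx s) N)
      (h2 : InChart (pc (Pi.basisFun K (Fin (m + 1))) idx s) N') (z : Fin m → Fin (m + 1) → K),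
      h1.det z = h2.det z := by
    intro N N' e h1 h2 z
    subst e
    rfl
  congr 1
  funext r
  rw [hrw _ _ hφ _ h, Pi.smul_apply, smul_eq_mul, wEquiv_apply, wmap_apply, wmap_apply,
    bigDet_eq K m h (pc (Pi.basisFun K (Fin (m + 1))) idx r),
    bigDet_eq K m h (pc (Pi.basisFun K (Fin (m + 1))) idx s), InChart.det_self, one_mul]
  field_simp

end Groth.Agent.SBAut28
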