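import Groth.Agent.Lib.Grass.ProjPts
import Groth.Agent.Lib.PicPn.Subst

/-!
# Linear substitutions on points of projective space
-/

set_option autoImplicit false
set_option backward.isDefEq.respectTransparency false
universe u

open CategoryTheory CategoryTheory.Limits AlgebraicGeometry MvPolynomial HomogeneousLocalization

namespace Groth.Agent.SBAut28

open Groth.Agent.ProjSpace Groth.Agent.GrassLib

variable {R : Type u} [CommRing R] {A : Type u} [CommRing A] [Algebra R A] {d : ℕ}

/-- Evaluation of degree zero fractions at a point where the denominator is invertible. -/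
noncomputable def evalAway (w : Fin (d + 1) → A) (x : MvPolynomial (Fin (d + 1)) R)
    (hu : IsUnit (aeval w x)) : Away (CohB1.polyGrading d R) x →+* A :=
  (IsLocalization.Away.lift (S := Localization.Away x) x (g := (aeval w).toRingHom) hu).comp
    (algebraMap (Away (CohB1.polyGrading d R) x) (Localization.Away x))

theorem evalAway_mk (w : Fin (d + 1) → A) (x : MvPolynomial (Fin (d + 1)) R)
    (hu : IsUnit (aeval w x)) {m : ℕ} (hx : x ∈ CohB1.polyGrading d R m) (n : ℕ)
    (a : MvPolynomial (Fin (d + 1)) R) (ha : a ∈ CohB1.polyGrading d R (n • m)) :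
    evalAway w x hu (Away.mk (CohB1.polyGrading d R) hx n a ha) * aeval w x ^ n = aeval w a := by
  show IsLocalization.Away.lift (S := Localization.Away x) x (g := (aeval w).toRingHom) hu
    (Away.mk (CohB1.polyGrading d R) hx n a ha).val * _ = _
  rw [Away.val_mk]
  have hspec : Localization.mk a (⟨x ^ n, n, rfl⟩ : Submonoid.powers x) *
      algebraMap (MvPolynomial (Fin (d + 1)) R) (Localization.Away x) (x ^ n) =
        algebraMap _ _ a := by
    rw [Localization.mk_eq_mk']
    exact IsLocalization.mk'_spec _ _ _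
  have h1 := congrArg (IsLocalization.Away.lift (S := Localization.Away x) x
    (g := (aeval w).toRingHom) hu) hspec
  rw [map_mul, IsLocalization.Away.lift_eq, IsLocalization.Away.lift_eq] at h1
  rw [← map_pow]
  exact h1

/-- A point written in the chart of a linear form. -/
theorem evalAway_comp_awayMap (w : Fin (d + 1) → A) {x f g : MvPolynomial (Fin (d + 1)) R}
    (hf : f ∈ CohB1.polyGrading d R 1) (hg : g ∈ CohB1.polyGrading d R 1) (hx : x = f * g)
    (huf : IsUnit (aeval w f)) (hug : IsUnit (aeval w g)) (hux : IsUnit (aeval w x)) :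
    (evalAway w x hux).comp (awayMap (CohB1.polyGrading d R) hg hx) = evalAway w f huf := by
  refine RingHom.ext fun z => ?_
  obtain ⟨n, a, ha, rfl⟩ := Away.mk_surjective (CohB1.polyGrading d R) hf z
  rw [RingHom.comp_apply, awayMap_mk]
  have h1 := evalAway_mk w x hux (hx ▸ SetLike.mul_mem_graded hf hg) n (a * g ^ n)
    (by rw [smul_add]; exact SetLike.mul_mem_graded ha (SetLike.pow_mem_graded n hg))
  have h2 := evalAway_mk w f huf hf n a ha
  refine (hux.pow n).mul_right_cancel (h1.trans ?_)
  rw [show aeval w x = aeval w f * aeval w g by rw [hx, map_mul], map_mul, map_pow, mul_pow,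
    ← mul_assoc, h2]

theorem spec_evalAway_awayι_eq (w : Fin (d + 1) → A) {f g : MvPolynomial (Fin (d + 1)) R}
    (hf : f ∈ CohB1.polyGrading d R 1) (hg : g ∈ CohB1.polyGrading d R 1)
    (huf : IsUnit (aeval w f)) (hug : IsUnit (aeval w g)) :
    Spec.map (CommRingCat.ofHom (evalAway w f huf)) ≫
        Proj.awayι (CohB1.polyGrading d R) f hf Nat.one_pos =
      Spec.map (CommRingCat.ofHom (evalAway w g hug)) ≫
        Proj.awayι (CohB1.polyGrading d R) g hg Nat.one_pos := by
  have hux : IsUnit (aeval w (f * g)) := by rw [map_mul]; exact huf.mul hug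
  rw [← evalAway_comp_awayMap w hf hg rfl huf hug hux,
    ← evalAway_comp_awayMap w hg hf (mul_comm f g) hug huf hux]
  simp only [CommRingCat.ofHom_comp, Spec.map_comp, Category.assoc, Proj.SpecMap_awayMap_awayι]

theorem vecMor_eq_evalAway (s : Fin (d + 1)) (w : Fin (d + 1) → A) (hs : w s = 1)
    (hu : IsUnit (aeval w (X s : MvPolynomial (Fin (d + 1)) R))) :
    vecMor (R := R) s w = Spec.map (CommRingCat.ofHom (evalAway w (X s) hu)) ≫
      Proj.awayι (CohB1.polyGrading d R) (X s) (X_mem' d R s) Nat.one_pos := by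
  rw [vecMor_eq_awayHom]
  congr 3
  refine RingHom.ext fun z => ?_
  obtain ⟨n, a, ha, rfl⟩ := Away.mk_surjective (CohB1.polyGrading d R) (X_mem' d R s) z
  rw [awayHom_mk s w hs, ← evalAway_mk w (X s) hu (X_mem' d R s) n a ha, aeval_X, hs, one_pow,
    mul_one]

theorem aeval_sub (M : Matrix (Fin (d + 1)) (Fin (d + 1)) R) (w : Fin (d + 1) → A)
    (p : MvPolynomial (Fin (d + 1)) R) :
    aeval w (PicPn.sub M p) = aeval ((M.map (algebraMap R A)).mulVec w) p := by
  rw [PicPn.sub_apply, ← AlgHom.comp_apply]
  congr 1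
  refine MvPolynomial.algHom_ext fun j => ?_
  simp only [AlgHom.comp_apply, aeval_X, PicPn.lin, map_sum, map_mul, aeval_C, Matrix.mulVec,
    dotProduct, Matrix.map_apply]

/-- Linear substitutions act linearly on coordinates. -/
theorem vecMor_lmap (g : GL (Fin (d + 1)) R) (s t : Fin (d + 1)) (w G : Fin (d + 1) → A) (c : A)
    (hs : w s = 1) (ht : G t = 1) (hc : IsUnit c)
    (hG : ((g : Matrix (Fin (d + 1)) (Fin (d + 1)) R).map (algebraMap R A)).mulVec w = c • G) :
    vecMor (R := R) s w ≫ PicPn.lmap g = vecMor t G := by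
  let M : Matrix (Fin (d + 1)) (Fin (d + 1)) R := g
  let f := PicPn.sub M
  have hl : f (X t) ∈ CohB1.polyGrading d R 1 := f.map_mem (X_mem' d R t)
  have hfX : aeval w (f (X t)) = c := by
    rw [aeval_sub, hG, aeval_X, Pi.smul_apply, ht, smul_eq_mul, mul_one]
  have hus : IsUnit (aeval w (X s : MvPolynomial (Fin (d + 1)) R)) := by
    rw [aeval_X, hs]; exact isUnit_one
  have hul : IsUnit (aeval w (f (X t))) := by rw [hfX]; exact hc
  have hut : IsUnit (aeval G (X t : MvPolynomial (Fin (d + 1)) R)) := by
    rw [aeval_X, ht]; exact isUnit_one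
  rw [vecMor_eq_evalAway s w hs hus,
    spec_evalAway_awayι_eq w (X_mem' d R s) hl hus hul, vecMor_eq_evalAway t G ht hut,
    Category.assoc]
  show _ ≫ Proj.awayι (CohB1.polyGrading d R) (f (X t)) _ _ ≫
    Proj.map f (PicPn.irrelevant_le_sub g) = _
  rw [Proj.awayι_comp_map f (PicPn.irrelevant_le_sub g) Nat.one_pos (X t) (X_mem' d R t),
    ← Category.assoc, ← Spec.map_comp, ← CommRingCat.ofHom_comp]
  congr 3
  refine RingHom.ext fun z => ?_
  obtain ⟨n, a, ha, rfl⟩ := Away.mk_surjective (CohB1.polyGrading d R) (X_mem' d R t) z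
  have hhom : a.IsHomogeneous n := by simpa using ha
  rw [RingHom.comp_apply, Away.map_mk]
  have h1 := evalAway_mk w (f (X t)) hul hl n (f a) (f.map_mem ha)
  have h2 := evalAway_mk G (X t) hut (X_mem' d R t) n a ha
  rw [aeval_X, ht, one_pow, mul_one] at h2
  rw [hfX, aeval_sub, hG, show c • G = fun i => c * G i from rfl,
    aeval_mul_of_isHomogeneous c G hhom, ← h2, mul_comm] at h1
  exact (hc.pow n).mul_left_cancel h1

end Groth.Agent.SBAut28
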