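import Groth.Agent.Lib.SBAut28.Surj

/-!
# Automorphisms of a Severi–Brauer scheme
-/

set_option autoImplicit false
set_option backward.isDefEq.respectTransparency false
universe u

open CategoryTheory AlgebraicGeometry TensorProduct

namespace Groth.Agent.SBAut28

/-- The automorphism group of a Severi–Brauer scheme is the group of units modulo scalars. -/
theorem exists_autHom {k : Type u} [Field k] {A : Type u} [Ring A] [Algebra k A]
    [Algebra.IsCentral k A] [IsSimpleRing A] {n : ℕ} (hn : 0 < n)
    (hA : Module.finrank k A = n * n) {X : Scheme.{u}} {f : X ⟶ Spec (CommRingCat.of k)}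
    (hX : BrSev.IsSBOf k A (n * n - n) f) :
    ∃ ξ : Aˣ →* Aut (Over.mk f), Function.Surjective ξ ∧
      ξ.ker = (Units.map (algebraMap k A : k →* A)).range := by
  classical
  haveI : FiniteDimensional k A := .of_finrank_pos (by rw [hA]; exact Nat.mul_pos hn hn)
  obtain ⟨str⟩ := hX
  refine ⟨autHom str, ?_, ?_⟩
  · intro a
    obtain ⟨K, hK1, hK2, hfin, hgal, l, -, ⟨ψ⟩⟩ := Groth.Agent.S0201.result k A
    have hln : l = n := by
      have h := LinearEquiv.finrank_eq ψ.toLinearEquiv
      rw [Module.finrank_baseChange, hA, Module.finrank_matrix, Module.finrank_self,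
        Fintype.card_fin, mul_one] at h
      exact (Nat.mul_self_inj.1 h).symm
    subst hln
    obtain ⟨m, rfl⟩ : ∃ m, l = m + 1 := ⟨l - 1, by omega⟩
    have hcard : Fintype.card {S : Finset (Fin (m + 1)) // S.card = m} = m + 1 := by
      rw [Fintype.card_finset_len, Fintype.card_fin]
      simp
    exact exists_unit_eq a (Fintype.equivFinOfCardEq hcard).symm str ψ
  · refine le_antisymm (fun u hu => ?_) ?_
    · obtain ⟨r, hr⟩ := mem_range_of_act_eq hn hA u fun R _ _ M =>
        act_eq_of_autHom_eq_one str hu R M
      have hr0 : r ≠ 0 := fun h0 => by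
        haveI : Nontrivial A := inferInstance
        exact u.ne_zero (by rw [← hr, h0, map_zero])
      exact ⟨Units.mk0 r hr0, Units.ext hr⟩
    · rintro _ ⟨r, rfl⟩
      exact autHom_algebraMap str r

end Groth.Agent.SBAut28
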