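import Groth.Agent.Lib.SBAut28.Line
import Groth.Agent.Lib.SBAut28.Kernel
import Groth.Agent.Lib.PicPn.Aut
import Mathlib.FieldTheory.Galois.Basic
import Mathlib.AlgebraicGeometry.Morphisms.Flat

/-!
# Every automorphism of a Severi–Brauer scheme comes from a unit
-/

set_option autoImplicit false
set_option backward.isDefEq.respectTransparency false
universe u

open TensorProduct Module CategoryTheory Limits AlgebraicGeometry

namespace Groth.Agent.SBAut28

open Groth.Agent.GrassLib Groth.Agent.SBSplit25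

variable {k : Type u} [Field k] {A : Type u} [Ring A] [Algebra k A] {m : ℕ}
  {X : Scheme.{u}} {f : X ⟶ Spec (CommRingCat.of k)}
  {K : Type u} [Field K] [Algebra k K]

theorem eMat_mul_row (ψ : K ⊗[k] A ≃ₐ[K] Matrix (Fin (m + 1)) (Fin (m + 1)) K) (x y : K ⊗[k] A)
    (i : Fin (m + 1)) :
    eMat k K A ψ K (x * y) i = Matrix.vecMul (eMat k K A ψ K x i) (eMat k K A ψ K y) := by
  rw [map_mul, Matrix.mul_apply_eq_vecMul]

theorem mem_ideal_line (ψ : K ⊗[k] A ≃ₐ[K] Matrix (Fin (m + 1)) (Fin (m + 1)) K)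
    (v : Fin (m + 1) → K) (hv : v ≠ 0) (x : K ⊗[k] A) :
    x ∈ (idealOfLine k K A ψ (n := m + 1) (line K m v hv)).1.toSubmodule ↔
      ∀ i, ∃ l : K, l • v = eMat k K A ψ K x i := by
  rw [mem_idealOfLine]
  refine forall_congr' fun i => ?_
  rw [mem_line, coord_rowMap]

theorem exists_ideal_line (ψ : K ⊗[k] A ≃ₐ[K] Matrix (Fin (m + 1)) (Fin (m + 1)) K)
    (N : BrSev.SBSet k A ((m + 1) * (m + 1) - (m + 1)) K) :
    ∃ (v : Fin (m + 1) → K) (hv : v ≠ 0), idealOfLine k K A ψ (n := m + 1) (line K m v hv) = N := by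
  obtain ⟨L, hL⟩ := (idealOfLine_bijective k K A ψ (A := K) (Nat.succ_pos m)).2 N
  obtain ⟨v, hv, rfl⟩ := exists_line K m L
  exact ⟨v, hv, hL⟩

/-- An element stabilising all left ideals is a scalar. -/
theorem scalar_of_stable (ψ : K ⊗[k] A ≃ₐ[K] Matrix (Fin (m + 1)) (Fin (m + 1)) K) (z : K ⊗[k] A)
    (h : ∀ (N : BrSev.SBSet k A ((m + 1) * (m + 1) - (m + 1)) K) (x : K ⊗[k] A),
      x ∈ N.1.toSubmodule → x * z ∈ N.1.toSubmodule) :
    ∃ l : K, z = algebraMap K (K ⊗[k] A) l := by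
  classical
  obtain ⟨l, hl⟩ := scalar_of_forall_vecMul (Nat.succ_pos m) (eMat k K A ψ K z) fun v => by
    by_cases hv : v = 0
    · exact ⟨0, by simp [hv]⟩
    let x := ofRows k K A ψ K (Pi.single (0 : Fin (m + 1)) ((coord K K).symm v))
    have hrow : ∀ i, eMat k K A ψ K x i = if i = 0 then v else 0 := fun i => by
      rw [← coord_rowMap, rowMap_ofRows]
      by_cases hi : i = 0
      · subst hi; simp
      · simp [hi]
    have hx : x ∈ (idealOfLine k K A ψ (n := m + 1) (line K m v hv)).1.toSubmodule := by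
      refine (mem_ideal_line ψ v hv x).2 fun i => ?_
      rw [hrow]
      split_ifs with hi
      · exact ⟨1, one_smul _ _⟩
      · exact ⟨0, zero_smul _ _⟩
    obtain ⟨l, hl⟩ := (mem_ideal_line ψ v hv _).1 (h _ x hx) 0
    exact ⟨l, by rw [hl, eMat_mul_row, hrow, if_pos rfl]⟩
  refine ⟨l, (eMat k K A ψ K).injective ?_⟩
  rw [hl, AlgEquiv.commutes, Algebra.algebraMap_eq_smul_one]

variable (str : BrSev.SBStr k A ((m + 1) * (m + 1) - (m + 1)) f)
  (ψ : K ⊗[k] A ≃ₐ[K] Matrix (Fin (m + 1)) (Fin (m + 1)) K)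

/-- The base change represents lines. -/
noncomputable def rep : GrassLib.Rep K (Fin (m + 1) → K) m (Over.mk (BrSev.bcTo f K)) :=
  repOfSplit (n := m + 1) f str (Nat.succ_pos m) ψ

theorem mor_bcTo (L : GrassLib.Pt K (Fin (m + 1) → K) m K) :
    (rep str ψ).mor L ≫ BrSev.bcTo f K = GrassLib.str K K :=
  (rep str ψ).mor_str L

/-- The `K`-point of `X` attached to a line. -/
noncomputable def linePt (L : GrassLib.Pt K (Fin (m + 1) → K) m K) : BrSev.Pts f K :=
  ⟨(rep str ψ).mor L ≫ BrSev.proj f K, by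
    rw [Category.assoc, show BrSev.proj f K ≫ f = BrSev.bcTo f K ≫ _ from pullback.condition,
      ← Category.assoc, mor_bcTo, ← Spec.map_comp, ← CommRingCat.ofHom_comp]
    rfl⟩

/-- The identification on the point of a line. -/
def LineGood (B : Type u) [CommRing B] [Algebra K B] [ik : Algebra k B] [tk : IsScalarTower k K B]
    (L : GrassLib.Pt K (Fin (m + 1) → K) m B)
    (g : Over.mk (GrassLib.str K B) ⟶ Over.mk (BrSev.bcTo f K)) : Prop :=
  ∀ (p : (g.left ≫ BrSev.proj f K) ≫ f = Spec.map (CommRingCat.ofHom (algebraMap k B))),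
    str.bij B ⟨g.left ≫ BrSev.proj f K, p⟩ = idealOfLine k K A ψ (n := m + 1) L

theorem lineGood_congr (B : Type u) [CommRing B] [Algebra K B] (i j : Algebra k B) (hij : i = j)
    (ti : @IsScalarTower k K B _ _ i.toSMul) (tj : @IsScalarTower k K B _ _ j.toSMul)
    (L : GrassLib.Pt K (Fin (m + 1) → K) m B)
    (g : Over.mk (GrassLib.str K B) ⟶ Over.mk (BrSev.bcTo f K))
    (h : LineGood str ψ B (ik := i) (tk := ti) L g) : LineGood str ψ B (ik := j) (tk := tj) L g := by
  subst hij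
  exact h

theorem lineGood_of (B : Type u) [CommRing B] [Algebra K B] [ik : Algebra k B]
    [tk : IsScalarTower k K B] (L : GrassLib.Pt K (Fin (m + 1) → K) m B)
    (g : Over.mk (GrassLib.str K B) ⟶ Over.mk (BrSev.bcTo f K))
    (h : (lineEquivIdeal k K A ψ (A := B) (Nat.succ_pos m)).symm (str.bij B (bcPtsEquiv f B g)) = L) :
    LineGood str ψ B L g :=
  fun _ => ((lineEquivIdeal k K A ψ (A := B) (Nat.succ_pos m)).symm_apply_eq).1 h

theorem bij_linePt (L : GrassLib.Pt K (Fin (m + 1) → K) m K) :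
    str.bij K (linePt str ψ L) = idealOfLine k K A ψ (n := m + 1) L := by
  let g := ((rep str ψ).e (CommAlgCat.of K K)).symm L
  have hg := ((rep str ψ).e (CommAlgCat.of K K)).apply_symm_apply L
  have hi : Algebra.compHom K (algebraMap k K) = ‹Algebra k K› :=
    Algebra.algebra_ext _ _ fun _ => rfl
  have ti : @IsScalarTower k K K _ _ (Algebra.compHom K (algebraMap k K)).toSMul :=
    by rw [hi]; infer_instance
  have h1 : LineGood str ψ K (ik := Algebra.compHom K (algebraMap k K)) (tk := ti) L g :=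
    lineGood_of str ψ K (ik := Algebra.compHom K (algebraMap k K)) (tk := ti) L g hg
  exact lineGood_congr str ψ K _ _ hi ti inferInstance L g h1 (linePt str ψ L).2

variable (idx : Fin (m + 1) ≃ {S : Finset (Fin (m + 1)) // S.card = m})

/-- The automorphism of the base change. -/
noncomputable def bcAut (a : Aut (Over.mk f)) : BrSev.bc f K ⟶ BrSev.bc f K :=
  pullback.lift (BrSev.proj f K ≫ a.hom.left) (BrSev.bcTo f K) (by
    rw [Category.assoc, show a.hom.left ≫ f = f from Over.w a.hom]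
    exact pullback.condition)

theorem bcAut_proj (a : Aut (Over.mk f)) :
    bcAut (K := K) a ≫ BrSev.proj f K = BrSev.proj f K ≫ a.hom.left :=
  pullback.lift_fst _ _ _

theorem bcAut_bcTo (a : Aut (Over.mk f)) : bcAut (K := K) a ≫ BrSev.bcTo f K = BrSev.bcTo f K :=
  pullback.lift_snd _ _ _

theorem bcAut_comp (a b : Aut (Over.mk f)) :
    bcAut (K := K) (a * b) = bcAut b ≫ bcAut a := by
  refine pullback.hom_ext ?_ ?_
  · show bcAut _ ≫ BrSev.proj f K = (bcAut b ≫ bcAut a) ≫ BrSev.proj f K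
    rw [bcAut_proj, Category.assoc, bcAut_proj, ← Category.assoc, bcAut_proj, Category.assoc]
    rfl
  · show bcAut _ ≫ BrSev.bcTo f K = (bcAut b ≫ bcAut a) ≫ BrSev.bcTo f K
    rw [bcAut_bcTo, Category.assoc, bcAut_bcTo, bcAut_bcTo]

theorem bcAut_one : bcAut (K := K) (1 : Aut (Over.mk f)) = 𝟙 _ := by
  refine pullback.hom_ext ?_ ?_
  · show bcAut _ ≫ BrSev.proj f K = 𝟙 _ ≫ BrSev.proj f K
    rw [bcAut_proj, Category.id_comp]
    exact Category.comp_id _
  · show bcAut _ ≫ BrSev.bcTo f K = 𝟙 _ ≫ BrSev.bcTo f K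
    rw [bcAut_bcTo, Category.id_comp]

theorem isIso_bcAut (a : Aut (Over.mk f)) : IsIso (bcAut (K := K) a) :=
  ⟨bcAut a⁻¹, by rw [← bcAut_comp, inv_mul_cancel, bcAut_one],
    by rw [← bcAut_comp, mul_inv_cancel, bcAut_one]⟩

theorem epi_proj : Epi (BrSev.proj f K) := by
  haveI : Flat (Spec.map (CommRingCat.ofHom (algebraMap k K))) := by
    rw [HasRingHomProperty.Spec_iff (P := @Flat), CommRingCat.hom_ofHom, RingHom.flat_algebraMap_iff]
    infer_instance
  haveI : Surjective (Spec.map (CommRingCat.ofHom (algebraMap k K))) :=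
    ⟨fun y => ⟨(⟨⊥, Ideal.isPrime_bot⟩ : PrimeSpectrum K), Subsingleton.elim (α := PrimeSpectrum k) _ _⟩⟩
  haveI : Flat (BrSev.proj f K) := inferInstance
  haveI : Surjective (BrSev.proj f K) := inferInstance
  exact Flat.epi_of_flat_of_surjective _

/-- The linear map attached to an automorphism. -/
theorem exists_linear (a : Aut (Over.mk f)) :
    ∃ g : GL (Fin (m + 1)) K,
      bcAut (K := K) a ≫ (rep str ψ).plucker (Pi.basisFun K (Fin (m + 1))) idx =
        (rep str ψ).plucker (Pi.basisFun K (Fin (m + 1))) idx ≫ PicPn.lmap g ∧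
      ∀ (v : Fin (m + 1) → K) (hv : v ≠ 0), ∃ hv' :
          (wEquiv K m idx).symm ((g : Matrix (Fin (m + 1)) (Fin (m + 1)) K).mulVec
            (wEquiv K m idx v)) ≠ 0,
        (linePt str ψ (line K m v hv)).1 ≫ a.hom.left =
          (linePt str ψ (line K m _ hv')).1 := by
  let P := (rep str ψ).plucker (Pi.basisFun K (Fin (m + 1))) idx
  haveI : IsIso P := isIso_plucker (Pi.basisFun K (Fin (m + 1))) idx (rep str ψ)
    (by rw [Nat.add_sub_cancel_left, mul_one])
  haveI := isIso_bcAut (K := K) a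
  haveI : IsIso (inv P ≫ bcAut (K := K) a ≫ P) := inferInstance
  obtain ⟨g, hg⟩ := PicPn.exists_lmap_eq (inv P ≫ bcAut (K := K) a ≫ P) (by
    have hP : P ≫ CohB1.ProjSpace.toSpec m K = BrSev.bcTo f K :=
      (rep str ψ).plucker_toSpec (Pi.basisFun K (Fin (m + 1))) idx
    rw [Category.assoc, IsIso.inv_comp_eq, Category.assoc, hP, bcAut_bcTo])
  refine ⟨g, by rw [hg, IsIso.hom_inv_id_assoc], fun v hv => ?_⟩
  have hMv : (g : Matrix (Fin (m + 1)) (Fin (m + 1)) K).mulVec (wEquiv K m idx v) ≠ 0 := by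
    intro h0
    have h1 := congrArg ((g⁻¹ : GL (Fin (m + 1)) K) : Matrix (Fin (m + 1)) (Fin (m + 1)) K).mulVec h0
    rw [Matrix.mulVec_mulVec, ← Units.val_mul, inv_mul_cancel, Units.val_one, Matrix.one_mulVec,
      Matrix.mulVec_zero] at h1
    exact hv ((wEquiv K m idx).map_eq_zero_iff.1 h1)
  have hv' : (wEquiv K m idx).symm
      ((g : Matrix (Fin (m + 1)) (Fin (m + 1)) K).mulVec (wEquiv K m idx v)) ≠ 0 :=
    fun h => hMv ((wEquiv K m idx).symm.map_eq_zero_iff.1 h)
  refine ⟨hv', ?_⟩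
  obtain ⟨s, hs⟩ : ∃ s, wEquiv K m idx v s ≠ 0 :=
    Function.ne_iff.1 (fun h => hv ((wEquiv K m idx).map_eq_zero_iff.1 h))
  obtain ⟨t, ht⟩ := Function.ne_iff.1 hMv
  have ht' : wEquiv K m idx ((wEquiv K m idx).symm
      ((g : Matrix (Fin (m + 1)) (Fin (m + 1)) K).mulVec (wEquiv K m idx v))) t ≠ 0 := by
    rw [LinearEquiv.apply_symm_apply]; exact ht
  have h1 := mor_line_plucker idx (rep str ψ) v hv s hs
  have h2 := mor_line_plucker idx (rep str ψ) _ hv' t ht'
  have h3 := vecMor_lmap (A := K) g s t ((wEquiv K m idx v s)⁻¹ • wEquiv K m idx v)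
    (((g : Matrix (Fin (m + 1)) (Fin (m + 1)) K).mulVec (wEquiv K m idx v) t)⁻¹ •
      (g : Matrix (Fin (m + 1)) (Fin (m + 1)) K).mulVec (wEquiv K m idx v))
    ((wEquiv K m idx v s)⁻¹ * (g : Matrix (Fin (m + 1)) (Fin (m + 1)) K).mulVec (wEquiv K m idx v) t)
    (by simp [hs]) (by simp [Pi.smul_apply]; exact inv_mul_cancel₀ ht)
    (isUnit_iff_ne_zero.2 (mul_ne_zero (inv_ne_zero hs) ht))
    (by
      rw [Algebra.algebraMap_self, RingHom.coe_id, Matrix.map_id, Matrix.mulVec_smul, smul_smul,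
        mul_assoc, mul_inv_cancel₀ ht, mul_one])
  simp only [LinearEquiv.apply_symm_apply] at h2
  have key : (rep str ψ).mor (line K m v hv) ≫ bcAut (K := K) a =
      (rep str ψ).mor (line K m _ hv') := by
    rw [← cancel_mono P, Category.assoc, h2, ← h3, ← h1, hg, Category.assoc]
    simp [P]
  show (_ ≫ BrSev.proj f K) ≫ a.hom.left = _ ≫ BrSev.proj f K
  rw [← key, Category.assoc, Category.assoc, bcAut_proj]

/-- Automorphisms agreeing on `K`-points are equal. -/
theorem aut_ext (a b : Aut (Over.mk f)) (ψ : K ⊗[k] A ≃ₐ[K] Matrix (Fin (m + 1)) (Fin (m + 1)) K)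
    (idx : Fin (m + 1) ≃ {S : Finset (Fin (m + 1)) // S.card = m})
    (str : BrSev.SBStr k A ((m + 1) * (m + 1) - (m + 1)) f)
    (h : ∀ p : BrSev.Pts f K, p.1 ≫ a.hom.left = p.1 ≫ b.hom.left) : a = b := by
  classical
  obtain ⟨g, hga, hg⟩ := exists_linear str ψ idx a
  obtain ⟨g', hgb, hg'⟩ := exists_linear str ψ idx b
  let W := wEquiv K m idx
  let T : Matrix (Fin (m + 1)) (Fin (m + 1)) K :=
    ((g'⁻¹ * g : GL (Fin (m + 1)) K) : Matrix (Fin (m + 1)) (Fin (m + 1)) K)
  obtain ⟨c, hc⟩ := scalar_of_forall_vecMul (Nat.succ_pos m) T.transpose fun y => by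
    by_cases hy : y = 0
    · exact ⟨0, by simp [hy]⟩
    have hv : W.symm y ≠ 0 := fun h0 => hy (W.symm.map_eq_zero_iff.1 h0)
    obtain ⟨h1, e1⟩ := hg (W.symm y) hv
    obtain ⟨h2, e2⟩ := hg' (W.symm y) hv
    have e3 : linePt str ψ (line K m _ h1) = linePt str ψ (line K m _ h2) :=
      Subtype.ext (e1.symm.trans ((h _).trans e2))
    have e4 := congrArg (str.bij K) e3
    rw [bij_linePt, bij_linePt] at e4
    obtain ⟨c, hc⟩ := line_eq_iff K m
      ((idealOfLine_bijective k K A ψ (A := K) (Nat.succ_pos m)).1 e4)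
    refine ⟨c, ?_⟩
    have e5 := congrArg W hc
    simp only [map_smul, W, LinearEquiv.apply_symm_apply] at e5
    rw [Matrix.vecMul_transpose, show T = _ from Units.val_mul _ _, ← Matrix.mulVec_mulVec, ← e5,
      Matrix.mulVec_smul, Matrix.mulVec_mulVec, ← Units.val_mul, inv_mul_cancel, Units.val_one,
      Matrix.one_mulVec]
  have hc' : T = c • (1 : Matrix (Fin (m + 1)) (Fin (m + 1)) K) := by
    rw [← Matrix.transpose_transpose T, hc, Matrix.transpose_smul, Matrix.transpose_one]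
  have hc0 : c ≠ 0 := by
    intro h0
    refine (g'⁻¹ * g).ne_zero ?_
    show T = 0
    rw [hc', h0, zero_smul]
  have hmem : g'⁻¹ * g ∈ (PicPn.phi : GL (Fin (m + 1)) K →*
      Aut (Over.mk (CohB1.ProjSpace.toSpec m K))).ker := by
    rw [PicPn.ker_phi]
    refine ⟨Units.mk0 c hc0, Units.ext ?_⟩
    show Matrix.scalar (Fin (m + 1)) c = T
    rw [hc', Matrix.scalar_apply, Matrix.smul_one_eq_diagonal]
  have hlmap : PicPn.lmap g = PicPn.lmap g' := by
    have h1 : PicPn.lmap (g'⁻¹ * g) = 𝟙 _ :=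
      congrArg (fun e : Aut (Over.mk (CohB1.ProjSpace.toSpec m K)) => e.hom.left) hmem
    calc PicPn.lmap g = PicPn.lmap (g' * (g'⁻¹ * g)) := by rw [mul_inv_cancel_left]
      _ = PicPn.lmap g' := by rw [PicPn.lmap_mul, h1, Category.id_comp]
  haveI : IsIso ((rep str ψ).plucker (Pi.basisFun K (Fin (m + 1))) idx) :=
    isIso_plucker (Pi.basisFun K (Fin (m + 1))) idx (rep str ψ)
      (by rw [Nat.add_sub_cancel_left, mul_one])
  have hbc : bcAut (K := K) a = bcAut (K := K) b := by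
    rw [← cancel_mono ((rep str ψ).plucker (Pi.basisFun K (Fin (m + 1))) idx), hga, hgb, hlmap]
  refine Aut.ext (Over.OverMorphism.ext ?_)
  haveI := epi_proj (f := f) (K := K)
  rw [← cancel_epi (BrSev.proj f K), ← bcAut_proj, ← bcAut_proj, hbc]

theorem tm_mul (γ : K →ₐ[k] K) (x y : K ⊗[k] A) :
    GrassLib.tm γ (x * y) = GrassLib.tm γ x * GrassLib.tm γ y := by
  induction x using TensorProduct.induction_on with
  | zero => simp
  | tmul a b =>
    induction y using TensorProduct.induction_on with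
    | zero => simp
    | tmul c d => simp [Algebra.TensorProduct.tmul_mul_tmul]
    | add p q hp hq => rw [mul_add, map_add, map_add, hp, hq, mul_add]
  | add p q hp hq => rw [add_mul, map_add, map_add, hp, hq, add_mul]

theorem mem_gmap_iff {c : ℕ} (γ : K ≃ₐ[k] K) (N : GrassLib.Pt k A c K) (y : K ⊗[k] A) :
    y ∈ (GrassLib.gmap (γ : K →ₐ[k] K) N).toSubmodule ↔
      GrassLib.tm (γ.symm : K →ₐ[k] K) y ∈ N.toSubmodule := by
  constructor
  · intro h
    have h1 := GrassLib.tm_mem_gmap (γ.symm : K →ₐ[k] K) h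
    rw [← GrassLib.gmap_comp, AlgEquiv.symm_comp, GrassLib.gmap_id] at h1
    exact h1
  · intro h
    have h1 := GrassLib.tm_mem_gmap (γ : K →ₐ[k] K) h
    rwa [← LinearMap.comp_apply, ← LinearMap.rTensor_comp, ← AlgHom.comp_toLinearMap,
      AlgEquiv.comp_symm, AlgHom.toLinearMap_id, LinearMap.rTensor_id, LinearMap.id_apply] at h1

/-- Every automorphism acts on `K`-points as a unit of the algebra. -/
theorem exists_unit_eq [FiniteDimensional k A] [FiniteDimensional k K] [IsGalois k K]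
    (a : Aut (Over.mk f)) (idx : Fin (m + 1) ≃ {S : Finset (Fin (m + 1)) // S.card = m})
    (str : BrSev.SBStr k A ((m + 1) * (m + 1) - (m + 1)) f)
    (ψ : K ⊗[k] A ≃ₐ[K] Matrix (Fin (m + 1)) (Fin (m + 1)) K) :
    ∃ u : Aˣ, autHom str u = a := by
  classical
  obtain ⟨g, -, hg⟩ := exists_linear str ψ idx a
  let W := wEquiv K m idx
  let T : (Fin (m + 1) → K) ≃ₗ[K] (Fin (m + 1) → K) :=
    W.trans ((Matrix.toLin'OfInv (M := ((g⁻¹ : GL (Fin (m + 1)) K) : Matrix (Fin (m + 1)) (Fin (m + 1)) K))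
      (M' := (g : Matrix (Fin (m + 1)) (Fin (m + 1)) K))
      (by rw [← Units.val_mul, inv_mul_cancel, Units.val_one])
      (by rw [← Units.val_mul, mul_inv_cancel, Units.val_one])).trans W.symm)
  have hT : ∀ v, T v = W.symm ((g : Matrix (Fin (m + 1)) (Fin (m + 1)) K).mulVec (W v)) :=
    fun v => by simp [T, Matrix.toLin'OfInv, Matrix.toLin'_apply]
  let U := (LinearMap.toMatrix' T.symm.toLinearMap).transpose
  let U' := (LinearMap.toMatrix' T.toLinearMap).transpose
  have hU : ∀ r, Matrix.vecMul r U = T.symm r := fun r => by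
    rw [Matrix.vecMul_transpose, LinearMap.toMatrix'_mulVec]; rfl
  let e := eMat k K A ψ K
  let w := e.symm U
  let w' := e.symm U'
  have hww' : w' * w = 1 := by
    apply e.injective
    rw [map_mul, map_one, AlgEquiv.apply_symm_apply, AlgEquiv.apply_symm_apply,
      ← Matrix.transpose_mul, ← LinearMap.toMatrix'_comp]
    simp
  have hw'w : w * w' = 1 := by
    apply e.injective
    rw [map_mul, map_one, AlgEquiv.apply_symm_apply, AlgEquiv.apply_symm_apply,
      ← Matrix.transpose_mul, ← LinearMap.toMatrix'_comp]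
    simp
  let ap : BrSev.Pts f K → BrSev.Pts f K := fun p => ⟨p.1 ≫ a.hom.left, by
    rw [Category.assoc, show a.hom.left ≫ f = f from Over.w a.hom, p.2]⟩
  have hF : ∀ (p : BrSev.Pts f K) (x : K ⊗[k] A),
      x ∈ (str.bij K (ap p)).1.toSubmodule ↔ x * w ∈ (str.bij K p).1.toSubmodule := by
    intro p x
    obtain ⟨v, hv, hv2⟩ := exists_ideal_line ψ (str.bij K p)
    have hp : linePt str ψ (line K m v hv) = p :=
      (str.bij K).injective (by rw [bij_linePt, hv2])
    obtain ⟨hv', hav⟩ := hg v hv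
    have hap : ap p = linePt str ψ (line K m _ hv') := Subtype.ext (by rw [← hp]; exact hav)
    rw [hap, ← hp, bij_linePt, bij_linePt, mem_ideal_line, mem_ideal_line]
    refine forall_congr' fun i => exists_congr fun l => ?_
    rw [eMat_mul_row, AlgEquiv.apply_symm_apply, hU, LinearEquiv.eq_symm_apply, map_smul, hT]
  have hgal : ∀ (γ : K ≃ₐ[k] K) (q : BrSev.Pts f K) (x : K ⊗[k] A),
      x * w ∈ (str.bij K q).1.toSubmodule →
        x * GrassLib.tm (γ : K →ₐ[k] K) w ∈ (str.bij K q).1.toSubmodule := by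
    intro γ q x hx
    let q₀ := BrSev.Pts.map f (γ.symm : K →ₐ[k] K) q
    have hq : BrSev.Pts.map f (γ : K →ₐ[k] K) q₀ = q := by
      refine Subtype.ext ?_
      show Spec.map _ ≫ Spec.map _ ≫ q.1 = q.1
      rw [← Category.assoc, ← Spec.map_comp, ← CommRingCat.ofHom_comp]
      have : ((γ : K →ₐ[k] K) : K →+* K).comp ((γ.symm : K →ₐ[k] K) : K →+* K) = RingHom.id K :=
        RingHom.ext fun r => γ.apply_symm_apply r
      rw [this, CommRingCat.ofHom_id, Spec.map_id, Category.id_comp]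
    have hapq : ap q = BrSev.Pts.map f (γ : K →ₐ[k] K) (ap q₀) :=
      Subtype.ext (by
        show q.1 ≫ _ = Spec.map _ ≫ q₀.1 ≫ _
        rw [← Category.assoc]
        exact congrArg (· ≫ a.hom.left) (congrArg Subtype.val hq).symm)
    rw [← hF, hapq, str.natural] at hx
    have h1 := (hF q₀ _).1 ((mem_gmap_iff γ _ x).1 hx)
    rw [← hq, str.natural]
    refine (mem_gmap_iff γ _ _).2 ?_
    rw [tm_mul, ← LinearMap.comp_apply, ← LinearMap.rTensor_comp, ← AlgHom.comp_toLinearMap,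
      AlgEquiv.symm_comp, AlgHom.toLinearMap_id, LinearMap.rTensor_id, LinearMap.id_apply]
    exact h1
  have hl : ∀ γ : K ≃ₐ[k] K, ∃ l : K, GrassLib.tm (γ : K →ₐ[k] K) w = l • w := by
    intro γ
    obtain ⟨l, hl⟩ := scalar_of_stable ψ (w' * GrassLib.tm (γ : K →ₐ[k] K) w) fun N x hx => by
      have h1 := hgal γ ((str.bij K).symm N) (x * w')
      rw [Equiv.apply_symm_apply, mul_assoc, hww', mul_one] at h1
      rw [← mul_assoc]
      exact h1 hx
    refine ⟨l, ?_⟩
    rw [← one_mul (GrassLib.tm (γ : K →ₐ[k] K) w), ← hw'w, mul_assoc, hl, Algebra.smul_def]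
    exact (Algebra.commutes l w).symm
  let b := Module.finBasis k A
  let B := Algebra.TensorProduct.basis K b
  have hrepr : ∀ (γ : K →ₐ[k] K) (x : K ⊗[k] A) i,
      B.repr (GrassLib.tm γ x) i = γ (B.repr x i) := by
    intro γ x i
    induction x using TensorProduct.induction_on with
    | zero => simp
    | tmul c y => simp [B, Algebra.TensorProduct.basis_repr_tmul, map_smul]
    | add p q hp hq => simp [map_add, hp, hq]
  haveI : Nontrivial (K ⊗[k] A) := e.toEquiv.nontrivial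
  have hw0 : w ≠ 0 := fun h0 => one_ne_zero (α := K ⊗[k] A) (by rw [← hww', h0, mul_zero])
  obtain ⟨i₀, hi₀⟩ : ∃ i, B.repr w i ≠ 0 := by
    by_contra hall
    push Not at hall
    exact hw0 (B.repr.map_eq_zero_iff.1 (Finsupp.ext hall))
  have hfix : ∀ i, ∃ r : k, algebraMap k K r = B.repr w i / B.repr w i₀ := by
    intro i
    refine (IsGalois.mem_range_algebraMap_iff_fixed _).2 fun γ => ?_
    obtain ⟨l, hl⟩ := hl γ
    have h1 : ∀ j, γ (B.repr w j) = l * B.repr w j := fun j => by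
      have := hrepr (γ : K →ₐ[k] K) w j
      rw [hl, map_smul, Finsupp.smul_apply, smul_eq_mul] at this
      exact this.symm
    have hl0 : l ≠ 0 := fun h0 => hi₀ (γ.injective (by rw [map_zero, h1, h0, zero_mul]))
    rw [map_div₀, h1, h1, mul_div_mul_left _ _ hl0]
  choose r hr using hfix
  let u₀ : A := ∑ i, r i • b i
  have hwu : w = B.repr w i₀ • ((1 : K) ⊗ₜ[k] u₀) := by
    apply B.repr.injective
    ext i
    rw [map_smul, Finsupp.smul_apply, Algebra.TensorProduct.basis_repr_tmul, one_smul]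
    simp only [Finsupp.mapRange_apply, u₀, b.repr_sum_self]
    rw [hr, smul_eq_mul, mul_div_cancel₀ _ hi₀]
  have hu : IsUnit u₀ := by
    have hinj : Function.Injective (LinearMap.mulLeft k u₀) := by
      refine (injective_iff_map_eq_zero _).2 fun y hy => ?_
      have h1 : ((1 : K) ⊗ₜ[k] y : K ⊗[k] A) = 0 := by
        rw [← one_mul ((1 : K) ⊗ₜ[k] y), ← hww', mul_assoc, hwu, smul_mul_assoc,
          Algebra.TensorProduct.tmul_mul_tmul, show u₀ * y = 0 from hy, TensorProduct.tmul_zero,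
          smul_zero, mul_zero]
      exact (Algebra.TensorProduct.includeRight_injective (R := k) (A := K) (B := A)
        (algebraMap k K).injective) (h1.trans (TensorProduct.tmul_zero _ _).symm)
    obtain ⟨y, hy⟩ := LinearMap.injective_iff_surjective.1 hinj 1
    haveI : IsNoetherianRing A := isNoetherian_of_tower k inferInstance
    exact ⟨⟨u₀, y, hy, mul_eq_one_comm.1 hy⟩, rfl⟩
  refine ⟨hu.unit, (aut_ext a (autHom str hu.unit) ψ idx str fun p => ?_).symm⟩
  have h1 : ap p = (str.bij K).symm (act K hu.unit (str.bij K p)) := by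
    rw [Equiv.eq_symm_apply]
    refine Subtype.ext (Module.Grassmannian.ext (Submodule.ext fun x => ?_))
    rw [hF, mem_act, IsUnit.unit_spec, hwu, mul_smul_comm]
    exact Submodule.smul_mem_iff _ hi₀
  rw [autHom_apply, ← h1]

end Groth.Agent.SBAut28
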